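import Cfsg.Agent.ChevMult.Finish
import Cfsg.Agent.ChevMult.SmallCases
import Cfsg.Agent.ChevMult.TorG2
import Cfsg.Agent.ChevMult.SmallField
import Cfsg.Agent.Chev.GoodAll
import Cfsg.Agent.Chev.SteinbergData
import Cfsg.Agent.Chev.SteinbergTorus

/-!
Central extensions of `G₂` over three elements: the kernel is generated by the commutator of lifts
of one orthogonal pair of root elements.
-/

set_option autoImplicit false
set_option maxRecDepth 100000
set_option Elab.async false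

namespace CfsgLib.Coset.G23

open Cfsg.Lie CfsgLib.Chev CfsgLib.ChevMult
open scoped commutatorElement MatrixGroups

local notation "T" => G2Data.tab

/-- Cocharacters. -/
def vs : List (List ℤ) := [[1, 0], [0, 1], [1, 1]]

/-- Words in the Weyl group. -/
def wWords : List (List ℕ) :=
  [[], [0], [1], [0, 1], [1, 0], [0, 1, 0], [1, 0, 1], [0, 1, 0, 1], [1, 0, 1, 0],
    [0, 1, 0, 1, 0], [1, 0, 1, 0, 1], [0, 1, 0, 1, 0, 1]]

/-- Separation by an element of order two of the torus. -/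
def chkOdd (r s : ℕ) : Bool :=
  vs.any fun v => (decide (dotv T v r % 2 = 0) && decide (dotv T v s % 2 = 1)) ||
    (decide (dotv T v s % 2 = 0) && decide (dotv T v r % 2 = 1))

/-- The pair is a translate of the chosen orthogonal pair. -/
def chkOrth (r s : ℕ) : Bool :=
  wWords.any fun L => L.all (fun i => Nat.blt i 2) &&
    ((Nat.beq (Tab.wordT T L r) 11 && Nat.beq (Tab.wordT T L s) 4) ||
      (Nat.beq (Tab.wordT T L r) 4 && Nat.beq (Tab.wordT T L s) 11))

/-- The conditions on a root. -/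
def chkRoot (r : ℕ) : Bool :=
  (vs.any fun v => decide (dotv T v r % 2 = 1)) &&
  allBelow (fun s => Nat.beq s r || Nat.beq s (Tab.negR chevG2 r) ||
    cond (Tab.commT T r s).isEmpty (chkOdd r s || chkOrth r s)
      (chkOdd r s && G2Tor.cfg.Ls.any fun L => chkTerms T r s L)) 12

theorem chk_ok : allBelow chkRoot 12 = true := by decide +kernel

theorem orth_base : Tab.commT T 11 4 = [] ∧ (4 : ℕ) ≠ 11 ∧ (4 : ℕ) ≠ Tab.negR chevG2 11 := by
  refine ⟨?_, ?_, ?_⟩ <;> decide +kernel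

variable {F : Type*} [Field F]

theorem prime_field [Fintype F] (hF : Fintype.card F = 3) :
    (∀ a : F, ∃ n : ℕ, (n : F) = a) ∧ (3 : F) = 0 ∧ (-1 : F) ≠ 1 := by
  let r : ZMod 3 ≃+* F := ZMod.ringEquivOfPrime F Nat.prime_three hF
  refine ⟨fun a => ⟨(r.symm a).val, ?_⟩, ?_, ?_⟩
  · rw [← map_natCast r, ZMod.natCast_zmod_val, r.apply_symm_apply]
  · rw [← map_ofNat r, show (3 : ZMod 3) = 0 by decide, map_zero]
  · intro h
    have : r (-1) = r 1 := by rw [map_neg, map_one]; exact h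
    exact absurd (r.injective this) (by decide)

theorem odd_mover (h1 : (-1 : F) ≠ 1) (v : List ℤ) (r : ℕ) :
    (dotv T v r % 2 = 0 → Tab.chi T r (dv (D := chevG2) v (-1 : Fˣ)) = 1) ∧
    (dotv T v r % 2 = 1 → Tab.chi T r (dv (D := chevG2) v (-1 : Fˣ)) ≠ 1) := by
  rw [chi_dv]
  constructor
  · intro h
    rw [show dotv T v r = 2 * (dotv T v r / 2) by omega, zpow_mul]
    simp
  · intro h e
    rw [show dotv T v r = 2 * (dotv T v r / 2) + 1 by omega, zpow_add, zpow_mul] at e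
    simp only [zpow_ofNat, zpow_one] at e
    rw [show ((-1 : Fˣ) ^ 2) = 1 by simp, one_zpow, one_mul, Units.ext_iff] at e
    exact h1 (by simpa using e)

theorem kill_of_odd (h1 : (-1 : F) ≠ 1) {r s : ℕ} (h : chkOdd r s = true) : Kill T F r s := by
  simp only [chkOdd, List.any_eq_true, Bool.or_eq_true, Bool.and_eq_true, decide_eq_true_eq] at h
  obtain ⟨v, -, ⟨ha, hb⟩ | ⟨ha, hb⟩⟩ := h
  · exact ⟨dv v (-1), Or.inl ⟨(odd_mover h1 v r).1 ha, (odd_mover h1 v s).2 hb⟩⟩
  · exact ⟨dv v (-1), Or.inr ⟨(odd_mover h1 v s).1 ha, (odd_mover h1 v r).2 hb⟩⟩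

theorem root_facts {r : ℕ} (hr : r < 12) :
    (∃ v ∈ vs, dotv T v r % 2 = 1) ∧ ∀ s < 12, s ≠ r → s ≠ Tab.negR chevG2 r →
      (Tab.commT T r s = [] → chkOdd r s = true ∨ chkOrth r s = true) ∧
      (Tab.commT T r s ≠ [] → chkOdd r s = true ∧ ∃ L, chkTerms T r s L = true) := by
  have h := (allBelow_iff _ _).1 chk_ok r hr
  simp only [chkRoot, Bool.and_eq_true, List.any_eq_true, decide_eq_true_eq] at h
  obtain ⟨h1, h2⟩ := h
  refine ⟨h1, fun s hs e1 e2 => ?_⟩
  have h := (allBelow_iff _ _).1 h2 s hs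
  simp only [Bool.or_eq_true, Nat.beq_eq] at h
  rcases h with (e | e) | h
  · exact absurd e e1
  · exact absurd e e2
  refine ⟨fun he => ?_, fun he => ?_⟩
  · simpa [he] using h
  · simp only [List.isEmpty_eq_false_iff.2 he, cond_false, Bool.and_eq_true, List.any_eq_true] at h
    exact ⟨h.1, h.2.elim fun L hL => ⟨L, hL.2⟩⟩

theorem comm_pow {Γ : Type*} [Group Γ] {a b : Γ} (hz : ∀ y, y * ⁅a, b⁆ = ⁅a, b⁆ * y) (n m : ℕ) :
    ⁅a ^ n, b ^ m⁆ = ⁅a, b⁆ ^ (n * m) := by
  set z := ⁅a, b⁆ with hzdef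
  have hc : ∀ k, ∀ y : Γ, y * z ^ k = z ^ k * y := fun k y =>
    ((show Commute y z from hz y).pow_right k).eq
  have h1 : ∀ k : ℕ, ⁅a, b ^ k⁆ = z ^ k := by
    intro k
    induction k with
    | zero => simp
    | succ k ih =>
      rw [pow_succ b k, show ⁅a, b ^ k * b⁆ = ⁅a, b ^ k⁆ * (b ^ k * ⁅a, b⁆ * (b ^ k)⁻¹) by
        simp only [commutatorElement_def]; group, ih, ← hzdef, hz (b ^ k), mul_inv_cancel_right,
        pow_succ]
  induction n with
  | zero => simp
  | succ n ih =>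
    rw [pow_succ' a n, show ⁅a * a ^ n, b ^ m⁆ = a * ⁅a ^ n, b ^ m⁆ * a⁻¹ * ⁅a, b ^ m⁆ by
      simp only [commutatorElement_def]; group, ih, hc _ a, mul_inv_cancel_right, h1, ← pow_add,
      Nat.succ_mul]

variable [Fintype F] {Γ : Type*} [Group Γ] (S : CentExt good_G2 F Γ)

/-- The commutator of lifts of the chosen pair. -/
noncomputable def orthC : Γ := ⁅S.L 11 1, S.L 4 1⁆

theorem orthC_central : orthC S ∈ Subgroup.center Γ ∧ S.π (orthC S) = 1 := by
  have h : S.π (orthC S) = 1 := by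
    rw [orthC, map_commutatorElement, S.π_L, S.π_L, commutatorElement_eq_one_iff_commute]
    exact x_pair_commute (G := good_G2) (by decide) (by decide) orth_base.2.1 orth_base.2.2
      orth_base.1 1 1
  exact ⟨S.central (MonoidHom.mem_ker.2 h), h⟩

theorem orthC_pow (hF : Fintype.card F = 3) : orthC S ^ 3 = 1 := by
  have hc := Subgroup.mem_center_iff.1 (orthC_central S).1
  have h := comm_pow (a := S.L 11 1) (b := S.L 4 1) hc 3 1
  rw [mul_one, pow_one] at h
  rw [orthC, ← h, commutatorElement_eq_one_iff_mul_comm]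
  refine (Subgroup.mem_center_iff.1 (S.central ?_) _).symm
  rw [MonoidHom.mem_ker, S.π_pow_L, Nat.cast_ofNat, (prime_field hF).2.1, good_G2.full.x_zero]

theorem orth_comm_mem (hF : Fintype.card F = 3) {r s : ℕ} (hr : r < 12) (hs : s < 12)
    (hne : s ≠ r) (hn : s ≠ Tab.negR chevG2 r) (hc : Tab.commT T r s = [])
    (ho : chkOrth r s = true) {t u : F} {g h : Γ} (hg : S.π g = good_G2.full.x r t)
    (hh : S.π h = good_G2.full.x s u) : ⁅g, h⁆ ∈ Subgroup.zpowers (orthC S) := by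
  obtain ⟨hp, -, -⟩ := prime_field hF
  simp only [chkOrth, List.any_eq_true, Bool.and_eq_true, Bool.or_eq_true, Nat.beq_eq,
    List.all_eq_true, Nat.blt_eq] at ho
  obtain ⟨Ln, -, hLn, hcase⟩ := ho
  have hLn' : ∀ x ∈ Ln, x < chevG2.rank := hLn
  let L : List (Fin chevG2.rank) := Ln.pmap (fun i hi => (⟨i, hi⟩ : Fin chevG2.rank)) hLn'
  have hLv : L.map Fin.val = Ln := by simp [L, List.map_pmap]
  obtain ⟨N, hN⟩ : ∃ N, S.π N = good_G2.full.nw F L := by
    have : good_G2.full.nw F L ∈ S.π.range := list_prod_mem fun x hx => by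
      obtain ⟨i, -, rfl⟩ := List.mem_map.1 hx
      exact mul_mem (mul_mem (S.lifts _ _) (S.lifts _ _)) (S.lifts _ _)
    exact this
  have hconj : ∀ {c : ℕ}, c < 12 → ∀ {y : F} {k : Γ}, S.π k = good_G2.full.x c y →
      ∃ n : ℕ, S.π (N * k * N⁻¹) = S.π (S.L (Tab.wordT T Ln c) 1 ^ n) := fun {c} hcl {y k} hk => by
    obtain ⟨n, hn⟩ := hp ((swSgn T Ln c : F) * y)
    refine ⟨n, ?_⟩
    rw [S.π_pow_L, hn, map_mul, map_mul, map_inv, hN, hk, (nw_conj (G := good_G2) L hcl y).2, hLv]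
  have hk : S.π ⁅g, h⁆ = 1 := by
    rw [map_commutatorElement, hg, hh, commutatorElement_eq_one_iff_commute]
    exact x_pair_commute (G := good_G2) hr hs hne hn hc t u
  have hfix := S.central_fix hk N
  rw [conjugate_commutatorElement] at hfix
  obtain ⟨n, hn'⟩ := hconj hr hg
  obtain ⟨m, hm'⟩ := hconj hs hh
  rw [S.comm_congr hn' hm'] at hfix
  rw [← hfix]
  have hcz := Subgroup.mem_center_iff.1 (orthC_central S).1
  rcases hcase with ⟨e1, e2⟩ | ⟨e1, e2⟩
  · rw [e1, e2, comm_pow hcz]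
    exact pow_mem (Subgroup.mem_zpowers _) _
  · rw [e1, e2, ← commutatorElement_inv, comm_pow hcz]
    exact inv_mem (pow_mem (Subgroup.mem_zpowers _) _)

/-- The kernel of a stem extension is generated by the commutator. -/
theorem ker_le {F : Type*} [Field F] [Fintype F] (hF : Fintype.card F = 3) {Γ : Type*} [Group Γ]
    (σ : Γ →* chevG2.group F) (hσ : Cfsg.IsStemExtension σ) :
    σ.ker ≤ Subgroup.zpowers (orthC (ofStem (G := good_G2) σ hσ)) := by
  obtain ⟨hp, -, h1⟩ := prime_field hF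
  set S := ofStem (G := good_G2) σ hσ
  set N := Subgroup.zpowers (orthC S)
  haveI : N.Normal := ⟨fun n hn g => by
    rw [Subgroup.mem_center_iff.mp ((Subgroup.zpowers_le.mpr (orthC_central S).1) hn) g,
      mul_inv_cancel_right]
    exact hn⟩
  have hle : N ≤ σ.ker := Subgroup.zpowers_le.mpr
    (MonoidHom.mem_ker.mpr (Subtype.ext (orthC_central S).2))
  let σ' : Γ ⧸ N →* chevG2.group F := QuotientGroup.lift N σ hle
  have hker : σ'.ker = σ.ker.map (QuotientGroup.mk' N) := QuotientGroup.ker_lift N σ hle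
  have hσ' : Cfsg.IsStemExtension σ' := by
    refine ⟨fun x => ?_, ?_, ?_⟩
    · obtain ⟨y, rfl⟩ := hσ.1 x
      exact ⟨QuotientGroup.mk y, rfl⟩
    · rw [hker]
      rintro _ ⟨z, hz, rfl⟩
      refine Subgroup.mem_center_iff.mpr fun y => ?_
      obtain ⟨y, rfl⟩ := QuotientGroup.mk'_surjective N y
      rw [← map_mul, ← map_mul, Subgroup.mem_center_iff.mp (hσ.2.1 hz) y]
    · rw [hker]
      refine (Subgroup.map_mono hσ.2.2).trans ?_
      rw [_root_.commutator_def, Subgroup.map_commutator, _root_.commutator_def]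
      exact Subgroup.commutator_mono le_top le_top
  set S' := ofStem (G := good_G2) σ' hσ' with hS'
  have com : ∀ r < chevG2.nroots, ∀ s < chevG2.nroots, s ≠ r → s ≠ Tab.negR chevG2 r →
      Tab.commT T r s = [] → ∀ {t u : F} {g h : Γ ⧸ N}, S'.π g = good_G2.full.x r t →
      S'.π h = good_G2.full.x s u → Commute g h := by
    intro r hr s hs e1 e2 e3 t u g h hg hh
    rcases ((root_facts hr).2 s hs e1 e2).1 e3 with e | e
    · exact S'.commute_of_kill hr hs e1 e2 e3 (kill_of_odd h1 e) hg hh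
    · obtain ⟨g, rfl⟩ := QuotientGroup.mk'_surjective N g
      obtain ⟨h, rfl⟩ := QuotientGroup.mk'_surjective N h
      rw [← commutatorElement_eq_one_iff_commute, ← map_commutatorElement, QuotientGroup.mk'_apply,
        QuotientGroup.eq_one_iff]
      exact orth_comm_mem S hF hr hs e1 e2 e3 e hg hh
  have hS : S'.TorHyp :=
    { mv := fun r hr => by
        obtain ⟨v, -, hv⟩ := (root_facts hr).1
        exact ⟨dv v (-1), (odd_mover h1 v r).2 hv⟩
      ab := fun r _ => fun hg hh => S'.ab_prime hp hg hh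
      com := com
      kill := fun r hr s hs e1 e2 e3 => by
        obtain ⟨e, L, hL⟩ := ((root_facts hr).2 s hs e1 e2).2 e3
        exact ⟨kill_of_odd h1 e, L, hL⟩ }
  obtain ⟨τ, hτ⟩ := S'.exists_hom_tor hS
  have hbot : σ'.ker = ⊥ := by
    rw [(stem_lift (G := good_G2) σ' hσ' τ hτ).2.2,
      scθ_ker_eq_bot good_G2 (by simp) ⟨_, wits_G2⟩ uni_G2, Subgroup.map_bot]
  intro z hz
  have : QuotientGroup.mk' N z ∈ σ'.ker := hker ▸ ⟨z, hz, rfl⟩
  rw [hbot, Subgroup.mem_bot] at this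
  exact (QuotientGroup.eq_one_iff _).mp this

end CfsgLib.Coset.G23
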