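import Cfsg.Agent.Coset.G23.Embed
import Cfsg.Agent.Coset.G23.Upper
import Cfsg.Agent.Coset.O73.Schur.Triple
import Cfsg.Agent.CentralCert.Assemble
import Cfsg.Agent.PrimeGraphG24.FieldIso

/-!
The multiplier of `G₂` over three elements is cyclic of order three: the preimage of the group in
the triple cover of `PΩ(7, 3)` is a stem extension.
-/

set_option autoImplicit false
set_option maxRecDepth 100000
set_option Elab.async false

namespace CfsgLib.Coset.G23

open Cfsg.Lie CfsgLib.Coset O73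
open CfsgLib.Coset.Fi22.Schur (S3 LS om)
open CfsgLib.Coset.O73.Schur (let8 K3 LK τ3 τ3_facts Z3 om_mem ψ3 ψ3_bijective coe_ev_LK map_rels)
open scoped commutatorElement

universe u

/-- A root word in the letters of the triple cover. -/
abbrev wordK (r : Nat) : List Nat := (rootW.getD r []).map fun l => let8.getD l 9

theorem pair_check :
    Fi22.Schur.eqM (wordK 11 ++ wordK 4) (Fi22.Schur.spiderP ++ (wordK 4 ++ wordK 11)) = true := by
  decide +kernel

theorem τ3_ev (w : List Nat) : τ3 (ev LK w) = ev Lp w := by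
  have h : ψ3 (ev Lp w) = QuotientGroup.mk' Z3 (ev LK w) := by
    rw [ψ3, numHom_ev _ map_rels w]
    induction w with
    | nil => simp
    | cons l v ih =>
      rw [ev_cons, ev_cons, map_mul, ih]
      congr 1
      rw [fl, fl, ← List.getD_map (f := QuotientGroup.mk' Z3), map_one]
  rw [τ3, MonoidHom.comp_apply, ← h]
  exact (MulEquiv.ofBijective ψ3 ψ3_bijective).symm_apply_apply _

theorem comm_eq : ((⁅ev LK (rootW.getD 11 []), ev LK (rootW.getD 4 [])⁆ : K3) : S3) = om := by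
  have h := Fi22.Schur.LS_eq_of_eqM pair_check
  rw [ev_append, ev_append, ev_append, ← coe_ev_LK, ← coe_ev_LK] at h
  rw [commutatorElement_def]
  simp only [Subgroup.coe_mul, Subgroup.coe_inv, h]
  simp only [Fi22.Schur.om]
  group

theorem cover : ∃ (Γ : Type) (_ : Group Γ) (_ : Finite Γ) (σ : Γ →* G3),
    Cfsg.IsStemExtension σ ∧ Nonempty (σ.ker ≃* Multiplicative (ZMod 3)) := by
  obtain ⟨hs, hc, hcard⟩ := τ3_facts
  let K : Subgroup K3 := emb.range.comap τ3
  let f : K →* emb.range := (τ3.comp K.subtype).codRestrict emb.range fun x => x.2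
  let σ : K →* G3 := (MonoidHom.ofInjective emb_injective).symm.toMonoidHom.comp f
  have mem : ∀ {x : K}, x ∈ σ.ker ↔ τ3 (x : K3) = 1 := fun {x} => by
    rw [MonoidHom.mem_ker]
    exact ((MonoidHom.ofInjective emb_injective).symm.map_eq_one_iff).trans Subtype.ext_iff
  have hle : ∀ y : K3, τ3 y = 1 → y ∈ K := fun y hy => by
    rw [Subgroup.mem_comap, hy]
    exact one_mem _
  let ke : σ.ker ≃ τ3.ker :=
    { toFun := fun x => ⟨x.1.1, MonoidHom.mem_ker.mpr (mem.mp x.2)⟩
      invFun := fun y => ⟨⟨y.1, hle y.1 (MonoidHom.mem_ker.mp y.2)⟩, mem.mpr (MonoidHom.mem_ker.mp y.2)⟩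
      left_inv := fun _ => rfl
      right_inv := fun _ => rfl }
  have hcard' : Nat.card σ.ker = 3 := (Nat.card_congr ke).trans hcard
  obtain ⟨g1, hg1⟩ := emb_root 11
  obtain ⟨g2, hg2⟩ := emb_root 4
  let k1 : K := ⟨ev LK (rootW.getD 11 []), ⟨g1, hg1.trans (τ3_ev _).symm⟩⟩
  let k2 : K := ⟨ev LK (rootW.getD 4 []), ⟨g2, hg2.trans (τ3_ev _).symm⟩⟩
  have hval : ((⁅k1, k2⁆ : K) : K3) = ⟨om, om_mem⟩ := Subtype.ext comm_eq
  have hker : ⁅k1, k2⁆ ∈ σ.ker := by
    refine mem.mpr ?_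
    rw [hval, τ3, MonoidHom.comp_apply, QuotientGroup.mk'_apply,
      (QuotientGroup.eq_one_iff _).mpr (Subgroup.mem_zpowers _), map_one]
  haveI : Fact (Nat.Prime 3) := ⟨Nat.prime_three⟩
  have htop : Subgroup.zpowers (⟨⁅k1, k2⁆, hker⟩ : σ.ker) = ⊤ := by
    refine zpowers_eq_top_of_prime_card hcard' fun h => Fi22.Schur.om_ne_one ?_
    exact (congrArg Subtype.val hval).symm.trans (congrArg (fun x : σ.ker => ((x.1 : K3) : S3)) h)
  haveI : Finite P := O73.card_le.1
  haveI : Finite K3 := τ3.finite_iff_finite_ker_range.mpr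
    ⟨Nat.finite_of_card_ne_zero (by rw [hcard]; decide), inferInstance⟩
  refine ⟨K, inferInstance, inferInstance, σ, ⟨?_, ?_, ?_⟩, ?_⟩
  · refine (MonoidHom.ofInjective emb_injective).symm.surjective.comp fun y => ?_
    obtain ⟨x, hx⟩ := hs y.1
    exact ⟨⟨x, show τ3 x ∈ emb.range from hx ▸ y.2⟩, Subtype.ext hx⟩
  · intro x hx
    exact Subgroup.mem_center_iff.mpr fun y =>
      Subtype.ext (Subgroup.mem_center_iff.mp (hc (MonoidHom.mem_ker.mpr (mem.mp hx))) y.1)
  · intro x hx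
    obtain ⟨n, hn⟩ := Subgroup.mem_zpowers_iff.mp (htop ▸ Subgroup.mem_top (⟨x, hx⟩ : σ.ker))
    rw [show x = ⁅k1, k2⁆ ^ n from (congrArg Subtype.val hn).symm.trans (by simp)]
    exact zpow_mem (Subgroup.commutator_mem_commutator (Subgroup.mem_top _) (Subgroup.mem_top _)) n
  · haveI : IsCyclic σ.ker := isCyclic_of_prime_card hcard'
    exact ⟨mulEquivOfCyclicCardEq
      (by rw [hcard', Nat.card_congr Multiplicative.toAdd, Nat.card_zmod])⟩

/-- The multiplier. -/
theorem multiplier {F : Type u} [Field F] [Fintype F] (hF : Fintype.card F = 3) :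
    Cfsg.HasCyclicSchurMultiplier ↥(chevG2.group F) 3 := by
  refine ⟨?_, fun Γ _ _ σ hσ => CfsgLib.CentralCert.exists_surj_one hσ.2.1
    (MonoidHom.mem_ker.mpr (Subtype.ext (orthC_central (CfsgLib.ChevMult.ofStem (G := CfsgLib.Chev.good_G2) σ hσ)).2)) (orthC_pow _ hF)
    fun z hz => ker_le hF σ hσ hz⟩
  obtain ⟨Γ, _, _, σ, hσ, ⟨i⟩⟩ := cover
  obtain ⟨e⟩ := Cfsg.Agent.PrimeGraphG24.nonempty_group_equiv chevG2
    (ZMod.ringEquivOfPrime F Nat.prime_three hF : ZMod 3 ≃+* F)
  let j : ULift.{u} Γ ≃* Γ := MulEquiv.ulift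
  let τ : ULift.{u} Γ →* chevG2.group F := e.toMonoidHom.comp (σ.comp j.toMonoidHom)
  have mem : ∀ {x}, x ∈ τ.ker ↔ j x ∈ σ.ker := fun {x} => by
    rw [MonoidHom.mem_ker, MonoidHom.mem_ker]
    exact e.map_eq_one_iff
  refine ⟨ULift.{u} Γ, inferInstance, inferInstance, τ, ⟨?_, ?_, ?_⟩, ⟨?_⟩⟩
  · exact e.surjective.comp (hσ.1.comp j.surjective)
  · intro x hx
    refine Subgroup.mem_center_iff.mpr fun y => j.injective ?_
    rw [map_mul, map_mul, Subgroup.mem_center_iff.mp (hσ.2.1 (mem.mp hx)) (j y)]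
  · intro x hx
    have h : j.symm (j x) ∈ (commutator Γ).map j.symm.toMonoidHom :=
      Subgroup.mem_map_of_mem j.symm.toMonoidHom (hσ.2.2 (mem.mp hx))
    rw [j.symm_apply_apply, _root_.commutator_def, Subgroup.map_commutator,
      Subgroup.map_top_of_surjective _ (MulEquiv.surjective _), ← _root_.commutator_def] at h
    exact h
  · refine MulEquiv.trans ?_ i
    exact
      { toFun := fun x => ⟨j x.1, mem.mp x.2⟩
        invFun := fun y => ⟨j.symm y.1, mem.mpr (by rw [j.apply_symm_apply]; exact y.2)⟩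
        left_inv := fun x => Subtype.ext (j.symm_apply_apply x.1)
        right_inv := fun y => Subtype.ext (j.apply_symm_apply y.1)
        map_mul' := fun x y => Subtype.ext (map_mul j x.1 y.1) }

end CfsgLib.Coset.G23
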